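import Groth.Prelude.Def_W4stkflatp2Cpct
import Mathlib

/-!
# Calculus of fractions in the category of compactifications
-/

set_option autoImplicit false
set_option linter.style.haveILetI false
set_option backward.isDefEq.respectTransparency false
set_option backward.isDefEq.respectTransparency.types false

universe u

open CategoryTheory AlgebraicGeometry CategoryTheory.Limits

namespace Groth.Agent.CpctLoc

variable {S : Scheme.{u}} {A B C : Cpct.Pair S}

theorem left_w (f : A ⟶ B) : (Cpct.Pair.Hom.bar f).left ≫ B.bar.hom = A.bar.hom := Over.w _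

theorem restr_ι (f : A ⟶ B) :
    Cpct.restr f ≫ B.U.ι = A.U.ι ≫ (Cpct.Pair.Hom.bar f).left :=
  Scheme.Hom.resLE_comp_ι _ _

theorem restr_comp (f : A ⟶ B) (g : B ⟶ C) :
    Cpct.restr (f ≫ g) = Cpct.restr f ≫ Cpct.restr g := by
  rw [← cancel_mono C.U.ι, restr_ι, Category.assoc, restr_ι, ← Category.assoc _ B.U.ι, restr_ι,
    Category.assoc]
  rfl

theorem restr_id (A : Cpct.Pair S) : Cpct.restr (𝟙 A) = 𝟙 _ := by
  rw [← cancel_mono A.U.ι, restr_ι, Category.id_comp]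
  exact Category.comp_id _

theorem isoOpen_id (A : Cpct.Pair S) : Cpct.isoOpen S (𝟙 A) := by
  show IsIso _
  rw [restr_id]; infer_instance

theorem isoOpen_comp (f : A ⟶ B) (g : B ⟶ C) (hf : Cpct.isoOpen S f) (hg : Cpct.isoOpen S g) :
    Cpct.isoOpen S (f ≫ g) := by
  show IsIso _
  haveI : IsIso (Cpct.restr f) := hf
  haveI : IsIso (Cpct.restr g) := hg
  rw [restr_comp]; infer_instance

/-- A morphism into the open part from a morphism landing in it. -/
noncomputable def toOpen {X : Scheme.{u}} {T : Scheme.{u}} (V : X.Opens) (g : T ⟶ X)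
    (h : ∀ t, g.base t ∈ V) : T ⟶ V :=
  IsOpenImmersion.lift V.ι g (by rintro x ⟨t, rfl⟩; simpa using h t)

theorem toOpen_ι {X T : Scheme.{u}} (V : X.Opens) (g : T ⟶ X) (h : ∀ t, g.base t ∈ V) :
    toOpen V g h ≫ V.ι = g :=
  IsOpenImmersion.lift_fac _ _ _

/-- To give a pair over `B` with isomorphic open part. -/
theorem exists_isoOpen (B : Cpct.Pair S) {Z : Scheme.{u}} (p : Z ⟶ B.bar.left) [IsProper p]
    (V : Z.Opens) (hV : ∀ z ∈ V, p.base z ∈ B.U) (s : (B.U : Scheme.{u}) ⟶ V)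
    (hs : s ≫ V.ι ≫ p = B.U.ι) [Mono (V.ι ≫ p)] :
    ∃ (hc : IsCompact (V : Set Z)) (hp : IsProper (p ≫ B.bar.hom)),
      Cpct.isoOpen S (⟨Over.homMk p rfl, hV⟩ :
        (⟨Over.mk (p ≫ B.bar.hom), V, hp, hc⟩ : Cpct.Pair S) ⟶ B) := by
  haveI := B.isProper
  let r : (V : Scheme.{u}) ⟶ B.U := p.resLE B.U V hV
  have hr : r ≫ B.U.ι = V.ι ≫ p := Scheme.Hom.resLE_comp_ι _ _
  haveI : Mono r := by
    haveI : Mono (r ≫ B.U.ι) := hr ▸ inferInstance
    exact mono_of_mono r B.U.ι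
  have hsr : s ≫ r = 𝟙 _ := by
    rw [← cancel_mono B.U.ι, Category.assoc, hr, hs, Category.id_comp]
  have hrs : r ≫ s = 𝟙 _ := by
    rw [← cancel_mono r, Category.assoc, hsr, Category.comp_id, Category.id_comp]
  haveI : IsIso r := ⟨⟨s, hrs, hsr⟩⟩
  haveI : CompactSpace B.U := isCompact_iff_compactSpace.1 B.isCompact
  haveI : CompactSpace (V : Scheme.{u}) := Homeomorph.compactSpace (Scheme.Hom.homeomorph (inv r))
  exact ⟨isCompact_iff_compactSpace.2 ‹CompactSpace (V : Scheme.{u})›, inferInstance, ‹IsIso r›⟩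

theorem exists_ore (f : A ⟶ C) (u : B ⟶ C) (hu : Cpct.isoOpen S u) :
    ∃ (D : Cpct.Pair S) (v : D ⟶ A) (g : D ⟶ B), Cpct.isoOpen S v ∧ v ≫ f = g ≫ u := by
  haveI : IsIso (Cpct.restr u) := hu
  haveI := B.isProper
  haveI := C.isProper
  let φ := (Cpct.Pair.Hom.bar f).left
  let ψ := (Cpct.Pair.Hom.bar u).left
  haveI : IsProper ψ := by
    haveI : IsProper (ψ ≫ C.bar.hom) := by
      show IsProper ((Cpct.Pair.Hom.bar u).left ≫ C.bar.hom)
      rw [left_w]; infer_instance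
    exact IsProper.of_comp ψ C.bar.hom
  let p : pullback φ ψ ⟶ A.bar.left := pullback.fst φ ψ
  let q : pullback φ ψ ⟶ B.bar.left := pullback.snd φ ψ
  let V : (pullback φ ψ).Opens := p ⁻¹ᵁ A.U ⊓ q ⁻¹ᵁ B.U
  let s₀ : (A.U : Scheme.{u}) ⟶ pullback φ ψ :=
    pullback.lift A.U.ι (Cpct.restr f ≫ inv (Cpct.restr u) ≫ B.U.ι) (by
      have e : B.U.ι ≫ ψ = Cpct.restr u ≫ C.U.ι := (restr_ι u).symm
      show A.U.ι ≫ φ = (Cpct.restr f ≫ inv (Cpct.restr u) ≫ B.U.ι) ≫ ψ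
      simp only [Category.assoc, e, IsIso.inv_hom_id_assoc]
      exact (restr_ι f).symm)
  have hsp : s₀ ≫ p = A.U.ι := pullback.lift_fst _ _ _
  have hsq : s₀ ≫ q = Cpct.restr f ≫ inv (Cpct.restr u) ≫ B.U.ι := pullback.lift_snd _ _ _
  let s : (A.U : Scheme.{u}) ⟶ V := toOpen V s₀ fun a => by
    refine ⟨?_, ?_⟩
    · show (s₀ ≫ p).base a ∈ A.U
      rw [hsp]; exact a.2
    · show (s₀ ≫ q).base a ∈ B.U
      rw [hsq]
      exact ((Cpct.restr f ≫ inv (Cpct.restr u)).base a).2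
  haveI : Mono (V.ι ≫ p) := by
    constructor
    intro T a b hab
    have hab' : a ≫ V.ι ≫ p = b ≫ V.ι ≫ p := hab
    rw [← cancel_mono V.ι]
    refine pullback.hom_ext (by simpa only [Category.assoc] using hab') ?_
    have key : ∀ c : T ⟶ V, ∃ d : T ⟶ B.U, d ≫ B.U.ι = (c ≫ V.ι) ≫ q :=
      fun c => ⟨c ≫ q.resLE B.U V inf_le_right, by simp⟩
    obtain ⟨d₁, h₁⟩ := key a
    obtain ⟨d₂, h₂⟩ := key b
    rw [← h₁, ← h₂]
    congr 1
    rw [← cancel_mono (Cpct.restr u), ← cancel_mono C.U.ι]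
    simp only [Category.assoc, restr_ι]
    rw [← Category.assoc, h₁, ← Category.assoc, h₂]
    have hpq : p ≫ φ = q ≫ ψ := pullback.condition
    simp only [Category.assoc, ψ] at hpq ⊢
    rw [← hpq, reassoc_of% hab']
  obtain ⟨hc, hp, hW⟩ := exists_isoOpen A p V (fun z hz => hz.1) s (by
    rw [← Category.assoc, toOpen_ι, hsp])
  refine ⟨⟨Over.mk (p ≫ A.bar.hom), V, hp, hc⟩, _, ⟨Over.homMk q ?_, fun z hz => hz.2⟩, hW, ?_⟩
  · show q ≫ B.bar.hom = p ≫ A.bar.hom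
    rw [← left_w f, ← left_w u]
    exact ((pullback.condition_assoc C.bar.hom).symm)
  · apply Cpct.Pair.Hom.ext
    ext1
    exact pullback.condition

theorem exists_equalize (f g : A ⟶ B) (h : Cpct.restr f = Cpct.restr g) :
    ∃ (D : Cpct.Pair S) (t : D ⟶ A) (_ : Cpct.isoOpen S t), t ≫ f = t ≫ g := by
  haveI := A.isProper
  haveI := B.isProper
  let φ := (Cpct.Pair.Hom.bar f).left
  let ψ := (Cpct.Pair.Hom.bar g).left
  let γ : A.bar.left ⟶ pullback B.bar.hom B.bar.hom :=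
    pullback.lift φ ψ ((left_w f).trans (left_w g).symm)
  let δ := pullback.diagonal B.bar.hom
  let p : pullback γ δ ⟶ A.bar.left := pullback.fst γ δ
  have hAU : A.U.ι ≫ φ = A.U.ι ≫ ψ := by
    simp only [φ, ψ, ← restr_ι, h]
  have hp : p ≫ φ = p ≫ ψ := by
    have e1 : p ≫ φ = pullback.snd γ δ := by
      have := congrArg (· ≫ pullback.fst B.bar.hom B.bar.hom) (pullback.condition (f := γ) (g := δ))
      simpa [γ, δ, p] using this
    have e2 : p ≫ ψ = pullback.snd γ δ := by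
      have := congrArg (· ≫ pullback.snd B.bar.hom B.bar.hom) (pullback.condition (f := γ) (g := δ))
      simpa [γ, δ, p] using this
    rw [e1, e2]
  let s₀ : (A.U : Scheme.{u}) ⟶ pullback γ δ :=
    pullback.lift A.U.ι (A.U.ι ≫ φ) (by
      ext
      · simp [γ, δ]
      · simp [γ, δ, hAU])
  have hsp : s₀ ≫ p = A.U.ι := pullback.lift_fst _ _ _
  let s := toOpen (p ⁻¹ᵁ A.U) s₀ fun a => by
    show (s₀ ≫ p).base a ∈ A.U
    rw [hsp]; exact a.2
  obtain ⟨hc, hp', hW⟩ := exists_isoOpen A p (p ⁻¹ᵁ A.U) (fun z hz => hz) s (by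
    rw [← Category.assoc, toOpen_ι, hsp])
  refine ⟨_, _, hW, ?_⟩
  apply Cpct.Pair.Hom.ext
  ext1
  exact hp

instance hasRightCalculus (S : Scheme.{u}) : (Cpct.isoOpen S).HasRightCalculusOfFractions where
  id_mem := isoOpen_id
  comp_mem := isoOpen_comp
  exists_rightFraction X Y φ := by
    obtain ⟨D, v, g, hv, e⟩ := exists_ore φ.f φ.s φ.hs
    exact ⟨MorphismProperty.RightFraction.mk v hv g, e⟩
  ext X Y Y' f₁ f₂ s hs e := by
    refine exists_equalize f₁ f₂ ?_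
    haveI : IsIso (Cpct.restr s) := hs
    rw [← cancel_mono (Cpct.restr s), ← restr_comp, ← restr_comp, e]

theorem exists_lift [QuasiSeparatedSpace S] (A B : Cpct.Pair S)
    (φ : Cpct.openOver.obj A ⟶ Cpct.openOver.obj B) :
    ∃ (D : Cpct.Pair S) (t : D ⟶ A) (g : D ⟶ B), Cpct.isoOpen S t ∧
      Cpct.openOver.map t ≫ φ = Cpct.openOver.map g := by
  haveI := A.isProper
  haveI := B.isProper
  let fst := pullback.fst A.bar.hom B.bar.hom
  let snd := pullback.snd A.bar.hom B.bar.hom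
  let φ' : (A.U : Scheme.{u}) ⟶ B.U := φ.left
  have hφ : φ' ≫ B.U.ι ≫ B.bar.hom = A.U.ι ≫ A.bar.hom := Over.w φ
  let γ : (A.U : Scheme.{u}) ⟶ pullback A.bar.hom B.bar.hom :=
    pullback.lift A.U.ι (φ' ≫ B.U.ι) (by rw [Category.assoc, hφ])
  have hγf : γ ≫ fst = A.U.ι := pullback.lift_fst _ _ _
  have hγs : γ ≫ snd = φ' ≫ B.U.ι := pullback.lift_snd _ _ _
  haveI : IsImmersion (γ ≫ fst) := hγf ▸ inferInstance
  haveI : IsImmersion γ := IsImmersion.of_comp γ fst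
  haveI : QuasiSeparatedSpace A.bar.left := quasiSeparatedSpace_of_quasiSeparated A.bar.hom
  haveI : CompactSpace A.U := isCompact_iff_compactSpace.1 A.isCompact
  haveI : QuasiSeparatedSpace (pullback A.bar.hom B.bar.hom : Scheme.{u}) :=
    quasiSeparatedSpace_of_quasiSeparated fst
  haveI : QuasiCompact γ := quasiCompact_of_compactSpace γ
  let p : γ.image ⟶ A.bar.left := γ.imageι ≫ fst
  haveI : IsProper p := inferInstanceAs (IsProper (γ.imageι ≫ fst))
  let V := γ.toImage.opensRange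
  let e := γ.toImage.isoOpensRange
  have he : e.hom ≫ V.ι = γ.toImage := γ.toImage.isoOpensRange_hom_ι
  have hep : e.hom ≫ V.ι ≫ p = A.U.ι := by
    rw [← Category.assoc, he, ← Category.assoc, Scheme.Hom.toImage_imageι, hγf]
  haveI : Mono (V.ι ≫ p) := by
    rw [show V.ι ≫ p = e.inv ≫ A.U.ι by rw [← hep, Iso.inv_hom_id_assoc]]
    infer_instance
  have hmem : ∀ z ∈ V, p.base z ∈ A.U ∧ (γ.imageι ≫ snd).base z ∈ B.U := by
    rintro z ⟨a, rfl⟩
    refine ⟨?_, ?_⟩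
    · show (γ.toImage ≫ γ.imageι ≫ fst).base a ∈ A.U
      rw [Scheme.Hom.toImage_imageι_assoc, hγf]; exact a.2
    · show (γ.toImage ≫ γ.imageι ≫ snd).base a ∈ B.U
      rw [Scheme.Hom.toImage_imageι_assoc, hγs]; exact (φ'.base a).2
  obtain ⟨hc, hp, hW⟩ := exists_isoOpen A p V (fun z hz => (hmem z hz).1) e.hom hep
  refine ⟨_, _, ⟨Over.homMk (γ.imageι ≫ snd) ?_, fun z hz => (hmem z hz).2⟩, hW, ?_⟩
  · show (γ.imageι ≫ snd) ≫ B.bar.hom = (γ.imageι ≫ fst) ≫ A.bar.hom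
    simp only [Category.assoc, fst, snd, pullback.condition]
  · ext1
    show Cpct.restr _ ≫ φ' = Cpct.restr _
    have h1 : ∀ r : (V : Scheme.{u}) ⟶ A.U, r ≫ A.U.ι = V.ι ≫ p →
        ∀ r' : (V : Scheme.{u}) ⟶ B.U, r' ≫ B.U.ι = V.ι ≫ γ.imageι ≫ snd → r ≫ φ' = r' := by
      intro r hr r' hr'
      have her : e.hom ≫ r = 𝟙 _ := by rw [← cancel_mono A.U.ι, Category.assoc, hr, hep, Category.id_comp]
      rw [← cancel_mono B.U.ι, ← cancel_epi e.hom, Category.assoc, reassoc_of% her, hr',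
        reassoc_of% he, Scheme.Hom.toImage_imageι_assoc, hγs]
    exact h1 _ (restr_ι _) _ (restr_ι _)

end Groth.Agent.CpctLoc
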