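import Groth.Agent.CpctLoc.Basic

/-!
# The open part functor is a localization of compactifications
-/

set_option autoImplicit false
set_option linter.style.haveILetI false
set_option backward.isDefEq.respectTransparency false
set_option backward.isDefEq.respectTransparency.types false

universe u v₁ v₂ u₁ u₂

open CategoryTheory AlgebraicGeometry

namespace Groth.Agent.CpctLoc

/-- A criterion for a functor to be a localization at a class with right calculus of fractions. -/
theorem isLocalization_of_rightFractions {C : Type u₁} [Category.{v₁} C] {D : Type u₂}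
    [Category.{v₂} D] (F : C ⥤ D) (W : MorphismProperty C) [W.HasRightCalculusOfFractions]
    (hinv : W.IsInvertedBy F) [F.EssSurj]
    (hfull : ∀ (X Y : C) (φ : F.obj X ⟶ F.obj Y), ∃ (X' : C) (s : X' ⟶ X) (g : X' ⟶ Y),
      W s ∧ F.map s ≫ φ = F.map g)
    (hfaith : ∀ ⦃X Y : C⦄ (f g : X ⟶ Y), F.map f = F.map g →
      ∃ (X' : C) (t : X' ⟶ X) (_ : W t), t ≫ f = t ≫ g) :
    F.IsLocalization W := by
  refine ⟨hinv, ?_⟩
  let G := Localization.Construction.lift F hinv
  have hG : W.Q ⋙ G = F := Localization.Construction.fac F hinv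
  let e : W.Q ⋙ G ≅ F := eqToIso hG
  haveI : G.EssSurj := ⟨fun d => ⟨W.Q.obj (F.objPreimage d), ⟨e.app _ ≪≫ F.objObjPreimageIso d⟩⟩⟩
  have hsurj : ∀ Z : W.Localization, ∃ X : C, Z = W.Q.obj X := fun Z =>
    ⟨(Localization.Construction.objEquiv W).symm Z, ((Localization.Construction.objEquiv W).apply_symm_apply Z).symm⟩
  haveI : G.Faithful := ⟨fun {Z Z'} a b hab => by
    obtain ⟨X, rfl⟩ := hsurj Z
    obtain ⟨Y, rfl⟩ := hsurj Z'
    obtain ⟨φ, rfl⟩ := Localization.exists_rightFraction W.Q W a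
    obtain ⟨ψ, rfl⟩ := Localization.exists_rightFraction W.Q W b
    obtain ⟨χ, hχ⟩ :=
      (MorphismProperty.LeftFraction.mk ψ.s φ.s φ.hs).exists_rightFraction
    dsimp at hχ
    let σ : χ.X' ⟶ X := χ.s ≫ ψ.s
    have hσ : W σ := W.comp_mem _ _ χ.hs ψ.hs
    haveI := Localization.inverts W.Q W σ hσ
    haveI : IsIso (W.Q.map (χ.f ≫ φ.s)) := by rw [← hχ]; infer_instance
    have e1 : W.Q.map σ ≫ φ.map W.Q (Localization.inverts _ _) = W.Q.map (χ.f ≫ φ.f) := by
      simp only [σ, hχ, Functor.map_comp, Category.assoc,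
        MorphismProperty.RightFraction.map_s_comp_map]
    have e2 : W.Q.map σ ≫ ψ.map W.Q (Localization.inverts _ _) = W.Q.map (χ.s ≫ ψ.f) := by
      simp only [σ, Functor.map_comp, Category.assoc,
        MorphismProperty.RightFraction.map_s_comp_map]
    rw [← cancel_epi (W.Q.map σ), e1, e2]
    have h : F.map (χ.f ≫ φ.f) = F.map (χ.s ≫ ψ.f) := by
      have h' := congrArg (fun k => G.map (W.Q.map σ) ≫ k) hab
      simp only [← G.map_comp, e1, e2] at h'
      rw [← Functor.comp_map, ← Functor.comp_map] at h'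
      exact (cancel_epi (e.hom.app χ.X')).1
        ((e.hom.naturality _).symm.trans ((congrArg (· ≫ e.hom.app Y) h').trans (e.hom.naturality _)))
    obtain ⟨X', t, ht, het⟩ := hfaith _ _ h
    exact (MorphismProperty.map_eq_iff_precomp W.Q W _ _).2 ⟨X', t, ht, het⟩⟩
  haveI : G.Full := ⟨fun {Z Z'} k => by
    obtain ⟨X, rfl⟩ := hsurj Z
    obtain ⟨Y, rfl⟩ := hsurj Z'
    obtain ⟨X', s, g, hs, hg⟩ := hfull X Y (e.inv.app X ≫ k ≫ e.hom.app Y)
    haveI := Localization.inverts W.Q W s hs
    refine ⟨inv (W.Q.map s) ≫ W.Q.map g, ?_⟩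
    rw [G.map_comp, Functor.map_inv, IsIso.inv_comp_eq, ← Functor.comp_map, ← Functor.comp_map,
      ← cancel_mono (e.hom.app Y)]
    rw [e.hom.naturality, ← hg, ← Category.assoc, ← e.hom.naturality]
    simp⟩
  exact { }

variable (S : Scheme.{u})

theorem openFunctor_inverts : (Cpct.isoOpen S).IsInvertedBy (Cpct.openFunctor S) := fun A B f hf => by
  haveI : IsIso (Cpct.restr f) := hf
  haveI : IsIso ((Cpct.openFunctor S ⋙ ObjectProperty.ι _).map f) := by
    show IsIso (Cpct.openOver.map f)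
    haveI : IsIso ((Over.forget S).map (Cpct.openOver.map f)) := ‹IsIso (Cpct.restr f)›
    exact isIso_of_reflects_iso _ (Over.forget S)
  exact @isIso_of_reflects_iso _ _ _ _ _ _ _ (ObjectProperty.ι (Cpct.IsCompactifyable S)) this _

instance : (Cpct.openFunctor S).EssSurj :=
  ⟨fun X => by
    obtain ⟨A, ⟨i⟩⟩ := X.2
    exact ⟨A, ⟨(ObjectProperty.fullyFaithfulι _).preimageIso i⟩⟩⟩

theorem isLocalization_openFunctor [QuasiSeparatedSpace S] :
    (Cpct.openFunctor S).IsLocalization (Cpct.isoOpen S) := by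
  refine isLocalization_of_rightFractions _ _ (openFunctor_inverts S) (fun A B φ => ?_)
    fun A B f g h => exists_equalize f g ?_
  · obtain ⟨D, t, g, ht, e⟩ := exists_lift A B φ.hom
    exact ⟨D, t, g, ht, ObjectProperty.hom_ext _ e⟩
  · exact congrArg (fun k => k.hom.left) h

end Groth.Agent.CpctLoc
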